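import Groth.Agent.S4306
import Groth.Agent.S4305
import Groth.Agent.AlgEquivLib.Geom
import Groth.Agent.CohCmpLib.EulerConst
import Groth.Agent.CohCmpLib.LineBundle
import Groth.Agent.PnCohLib.FlatCriterion
import Groth.Agent.AmpleDevLib.Pull
import Groth.Agent.NumTrivLib.Transfer
import Groth.Agent.NumTrivLib.BoundedProj

/-!
# The locus where an invertible module is τ-trivial on the fibres
-/

set_option autoImplicit false
set_option linter.style.haveILetI false
set_option maxHeartbeats 1000000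
universe u

open CategoryTheory CategoryTheory.Limits AlgebraicGeometry TopologicalSpace Opposite
open HilbPolyLib
open KFlatLib (pb)

noncomputable section

namespace TauLocusLib

/-- A point of the base is affine over it. -/
theorem isAffineHom_point {Ω : Type u} [Field Ω] {S : Scheme.{u}} (σ : Spec (CommRingCat.of Ω) ⟶ S) :
    IsAffineHom σ := by
  refine ⟨fun U _ => ?_⟩
  rcases em (σ (default : PrimeSpectrum Ω) ∈ U) with h | h
  · have : σ ⁻¹ᵁ U = ⊤ := by
      ext z
      simpa [Subsingleton.elim (α := PrimeSpectrum Ω) z default] using h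
    rw [this]; exact isAffineOpen_top _
  · have : σ ⁻¹ᵁ U = ⊥ := by
      ext z
      simpa [Subsingleton.elim (α := PrimeSpectrum Ω) z default] using h
    rw [this]; exact isAffineOpen_bot _

theorem nonempty_pb_twist {X Y : Scheme.{u}} (g : X ⟶ Y) {L A : Y.Modules} (hL : PicF.IsInvertible L)
    (hA : PicF.IsInvertible A) (m n : ℕ) :
    Nonempty (pb g (CohB1.tensorMod (CohB1.tensorPow L m) (CohB1.tensorPow A n)) ≅
      CohB1.tensorMod (CohB1.tensorPow (pb g L) m) (CohB1.tensorPow (pb g A) n)) := by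
  obtain ⟨p, -⟩ := AmpleDevLib.exists_pullPowIso g hL m
  obtain ⟨q, -⟩ := AmpleDevLib.exists_pullPowIso g hA n
  obtain ⟨e⟩ := NumTrivLib.nonempty_pb_tensor g (CohB1.tensorPow L m) (CohB1.tensorPow A n)
  exact ⟨e.symm ≪≫ congrLeft p _ ≪≫ congrRight _ q⟩

variable {X S : Scheme.{u}} (f : X ⟶ S) [IsProper f] [Flat f] [LocallyOfFinitePresentation f]

/-- The fibrewise Euler characteristic. -/
theorem euler_fibre {M : X.Modules} (hM : PicF.IsInvertible M) {Ω : Type u} [Field Ω]
    (σ : Spec (CommRingCat.of Ω) ⟶ S) {s : S} (hσ : Set.range σ.base = {s}) :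
    @Curv2.euler Ω _ (pullback f σ) ⟨pullback.snd f σ⟩ (pb (pullback.fst f σ) M) = PerfAux.eulerChar f M s := by
  obtain ⟨-, hfp, hfl⟩ := CohCmpLib.rank_one_hyps f ((CohCmpLib.invertible_iff_rank_one M).1 hM)
  rw [CohCmpLib.euler_bc hfp hfl (IsPullback.of_hasPullback f σ) (default : PrimeSpectrum Ω)]
  congr 1
  exact hσ.subset ⟨_, rfl⟩

/-- The locus where two invertible modules have the same fibrewise Euler characteristic is closed. -/
theorem isClosed_euler_eq {M M' : X.Modules} (hM : PicF.IsInvertible M) (hM' : PicF.IsInvertible M') :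
    IsClosed {s : S | PerfAux.eulerChar f M s = PerfAux.eulerChar f M' s} := by
  obtain ⟨-, hfp, hfl⟩ := CohCmpLib.rank_one_hyps f ((CohCmpLib.invertible_iff_rank_one M).1 hM)
  obtain ⟨-, hfp', hfl'⟩ := CohCmpLib.rank_one_hyps f ((CohCmpLib.invertible_iff_rank_one M').1 hM')
  exact isClosed_eq (CohCmpLib.isLocallyConstant_eulerChar hfp hfl).continuous
    (CohCmpLib.isLocallyConstant_eulerChar hfp' hfl').continuous

/-- **τ-triviality is closed** for an ample family with irreducible geometric fibres. -/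
theorem isClosed_tauTrivialLocus
    (hirr : ∀ (Ω : Type u) [Field Ω] [IsAlgClosed Ω] (σ : Spec (CommRingCat.of Ω) ⟶ S), IrreducibleSpace ↥(pullback f σ))
    {A : X.Modules} (hA : PicF.IsInvertible A)
    (hamp : ∀ W : S.Opens, IsAffineOpen W → CohB1.IsAmple (A.restrict (f ⁻¹ᵁ W).ι))
    {L : X.Modules} (hL : PicF.IsInvertible L) : IsClosed {s : S | Pic13.IsTauTrivialAt f L s} := by
  obtain ⟨L', ⟨eL⟩⟩ := NumTrivLib.exists_inverse hL
  obtain ⟨A', ⟨eA⟩⟩ := NumTrivLib.exists_inverse hA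
  have hL' := IntMultLib.isInvertible_of_inverse hL eL
  have hA' := IntMultLib.isInvertible_of_inverse hA eA
  let T : X.Modules → ℕ → X.Modules := CohB1.tensorPow
  let E : X.Modules → ℕ → ℕ → X.Modules → Set S := fun M m n B =>
    {s | PerfAux.eulerChar f (CohB1.tensorMod (CohB1.tensorPow M m) (CohB1.tensorPow B n)) s =
      PerfAux.eulerChar f (CohB1.tensorPow B n) s}
  have hE : ∀ {M B : X.Modules}, PicF.IsInvertible M → PicF.IsInvertible B → ∀ m n, IsClosed (E M m n B) :=
    fun hM hB m n => isClosed_euler_eq f (isInvertible_tensor (AmpleThLib.tensorPow_isInvertible hM m)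
      (AmpleThLib.tensorPow_isInvertible hB n)) (AmpleThLib.tensorPow_isInvertible hB n)
  suffices {s : S | Pic13.IsTauTrivialAt f L s} =
      ⋂ m : ℕ, ⋂ n : ℕ, E L m n A ∩ (E L m n A' ∩ (E L' m n A ∩ E L' m n A')) by
    rw [this]
    exact isClosed_iInter fun m => isClosed_iInter fun n =>
      (hE hL hA m n).inter ((hE hL hA' m n).inter ((hE hL' hA m n).inter (hE hL' hA' m n)))
  -- the geometric fibres
  have fib : ∀ (Ω : Type u) [Field Ω] [IsAlgClosed Ω] (σ : Spec (CommRingCat.of Ω) ⟶ S) (s : S),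
      Set.range σ.base = {s} →
      (@Pic13.IsTauEquivZero Ω _ (pullback f σ) ⟨pullback.snd f σ⟩ (pb (pullback.fst f σ) L) ↔
        s ∈ ⋂ m : ℕ, ⋂ n : ℕ, E L m n A ∩ (E L m n A' ∩ (E L' m n A ∩ E L' m n A'))) := by
    intro Ω _ _ σ s hσ
    letI : (pullback f σ).Over (Spec (CommRingCat.of Ω)) := ⟨pullback.snd f σ⟩
    haveI : IsProper (pullback f σ ↘ Spec (CommRingCat.of Ω)) := inferInstanceAs (IsProper (pullback.snd f σ))
    haveI := hirr Ω σ
    let g := pullback.fst f σ
    obtain ⟨D, hD⟩ := exists_dim_lt Ω (X := pullback f σ)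
    obtain ⟨W, hW, hsW, -⟩ := exists_isAffineOpen_mem_and_subset (U := (⊤ : S.Opens)) (x := s) trivial
    have hg : Set.range g ⊆ (f ⁻¹ᵁ W : X.Opens) := by
      rintro _ ⟨p, rfl⟩
      change (g ≫ f) p ∈ W
      rw [show g ≫ f = pullback.snd f σ ≫ σ from pullback.condition]
      have : σ (pullback.snd f σ p) = s := hσ.subset ⟨_, rfl⟩
      exact (congrArg (· ∈ W) this).mpr hsW
    let ρ := IsOpenImmersion.lift (f ⁻¹ᵁ W).ι g (by rw [Scheme.Opens.range_ι]; exact hg)
    haveI : IsAffineHom σ := isAffineHom_point σ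
    haveI : IsAffineHom g := MorphismProperty.pullback_fst f σ inferInstance
    haveI : IsAffineHom ρ := by
      haveI : IsAffineHom (ρ ≫ (f ⁻¹ᵁ W).ι) := by rw [IsOpenImmersion.lift_fac]; infer_instance
      exact IsAffineHom.of_comp ρ (f ⁻¹ᵁ W).ι
    have hAσ : CohB1.IsAmple (pb g A) := by
      have hi := AmpleThLib.restrict_isInvertible (j := (f ⁻¹ᵁ W).ι) hA
      exact AmpleDevLib.isAmple_of_iso (AmpleDevLib.isInvertible_pb ρ hi) (AmpleDevLib.isInvertible_pb g hA)
        ((Scheme.Modules.pullback ρ).mapIso ((Scheme.Modules.restrictFunctorIsoPullback (f ⁻¹ᵁ W).ι).app A) ≪≫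
          (Scheme.Modules.pullbackComp ρ (f ⁻¹ᵁ W).ι).app A ≪≫
          (Scheme.Modules.pullbackCongr (IsOpenImmersion.lift_fac _ _ _)).app A)
        (AmpleDevLib.isAmple_pb ρ hi (hamp W hW))
    have hinv : ∀ {M M' : X.Modules}, (CohB1.tensorMod M M' ≅ Coh.structureModule X) →
        Nonempty (CohB1.tensorMod (pb g M) (pb g M') ≅ Coh.structureModule (pullback f σ)) := fun e => by
      obtain ⟨p⟩ := NumTrivLib.nonempty_pb_tensor g _ _
      exact ⟨p ≪≫ (Scheme.Modules.pullback g).mapIso e ≪≫ KFlatLib.pullUnitIso g⟩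
    have conv : ∀ {M B : X.Modules}, PicF.IsInvertible M → PicF.IsInvertible B → ∀ m n,
        (FGA.eulerCharLE Ω (pullback f σ) (CohB1.tensorMod (CohB1.tensorPow (pb g M) m) (CohB1.tensorPow (pb g B) n)) D =
          FGA.eulerCharLE Ω (pullback f σ) (CohB1.tensorPow (pb g B) n) D ↔ s ∈ E M m n B) := by
      intro M B hM hB m n
      obtain ⟨e⟩ := nonempty_pb_twist g hM hB m n
      obtain ⟨q, -⟩ := AmpleDevLib.exists_pullPowIso g hB n
      rw [eulerCharLE_eq hD.le, eulerCharLE_eq hD.le, ← CurvLib.euler_congr (k := Ω) e,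
        ← CurvLib.euler_congr (k := Ω) q, euler_fibre f (isInvertible_tensor
          (AmpleThLib.tensorPow_isInvertible hM m) (AmpleThLib.tensorPow_isInvertible hB n)) σ hσ,
        euler_fibre f (AmpleThLib.tensorPow_isInvertible hB n) σ hσ]
      rfl
    have hLσ := AmpleDevLib.isInvertible_pb g hL
    simp only [Set.mem_iInter, Set.mem_inter_iff]
    constructor
    · intro hτ m n
      obtain ⟨a, b, c, d⟩ := Groth.Agent.S4305.result Ω (pullback f σ) D hD.le (pb g A) (pb g A') (pb g L)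
        (pb g L') hAσ hLσ (hinv eA) (hinv eL) hτ m n
      exact ⟨(conv hL hA m n).1 a, (conv hL hA' m n).1 b, (conv hL' hA m n).1 c, (conv hL' hA' m n).1 d⟩
    · intro h
      exact Groth.Agent.S4306.result Ω (pullback f σ) D hD.le (pb g A) (pb g A') (pb g L) (pb g L') hAσ hLσ
        (hinv eA) (hinv eL) fun m n => ⟨(conv hL hA m n).2 (h m n).1, (conv hL hA' m n).2 (h m n).2.1,
          (conv hL' hA m n).2 (h m n).2.2.1, (conv hL' hA' m n).2 (h m n).2.2.2⟩
  ext s
  refine ⟨fun h => ?_, fun h Ω _ _ σ hσ => (fib Ω σ s hσ).2 h⟩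
  obtain ⟨Ω, _, _, ⟨ω⟩⟩ := AlgEquivLib.exists_geom S s
  have hσ : Set.range (ω ≫ S.fromSpecResidueField s).base = {s} := by
    refine Set.eq_singleton_iff_nonempty_unique_mem.2 ⟨Set.range_nonempty _, ?_⟩
    rintro _ ⟨z, rfl⟩
    have : S.fromSpecResidueField s (ω z) ∈ Set.range (S.fromSpecResidueField s).base := ⟨ω z, rfl⟩
    rw [Scheme.range_fromSpecResidueField s] at this
    exact this
  exact (fib Ω _ s hσ).1 (h Ω _ hσ)

end TauLocusLib

end
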